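import Groth.Agent.Lib.CanElt.AB
import Groth.Agent.Lib.RegLoc.GlobalDim
import Groth.Agent.Lib.FlatDepth.Fibre
import Groth.Agent.Lib.FlatDepth.NormFlat
import Groth.Agent.Lib.Depth.More
import Groth.Agent.Lib.Depth.Devissage
import Groth.Agent.Lib.Depth.SkOps

/-! The Auslander–Buchsbaum formula. -/

universe u

open IsLocalRing CategoryTheory Pointwise

namespace Groth.Agent.AB5

open RegLoc

variable {A : Type u} [CommRing A] [IsLocalRing A] [IsNoetherianRing A]
variable {M : Type u} [AddCommGroup M] [Module A M] [Module.Finite A M]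

theorem smul_top_ne_top [Nontrivial M] : maximalIdeal A • (⊤ : Submodule A M) ≠ ⊤ :=
  DepthLib.smul_top_ne_top (maximalIdeal.isMaximal A).ne_top

/-- A module of finite projective dimension and maximal depth is projective. -/
theorem projective_of_depth_ge : ∀ (t : ℕ) (A : Type u) [CommRing A] [IsLocalRing A] [IsNoetherianRing A],
    LocCoh.depth A A = t → ∀ (M : Type u) [AddCommGroup M] [Module A M] [Module.Finite A M],
      (∃ n, PD A M n) → (t : ℕ∞) ≤ LocCoh.depth A M → Module.Projective A M
  | 0, A, _, _, _, ht, M, _, _, _, ⟨n, h⟩, _ => CanElt.projective_of_depth_zero ht n M h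
  | t + 1, A, _, _, _, ht, M, _, _, _, ⟨n, h⟩, hM => by
    rcases subsingleton_or_nontrivial M with hs | hs
    · infer_instance
    have h1 : 1 ≤ LocCoh.idealDepth (maximalIdeal A) (M × A) := by
      refine le_trans (le_min ?_ ?_) (DepthLib.idealDepth_shortExact (I := maximalIdeal A)
        (DepthLib.shortExact_of_linearMap (f := LinearMap.inl A M A) (g := LinearMap.snd A M A)
          LinearMap.inl_injective LinearMap.snd_surjective Function.Exact.inl_snd)).1
      · exact le_trans (by exact_mod_cast Nat.succ_pos t) hM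
      · change 1 ≤ LocCoh.depth A A
        rw [ht]; exact_mod_cast Nat.succ_pos t
    obtain ⟨x, hx, hreg⟩ := DepthLib.exists_isSMulRegular_of_one_le_idealDepth smul_top_ne_top h1
    have hxA : IsSMulRegular A x := fun a b e => by
      have := @hreg (0, a) (0, b) (Prod.ext (by simp) e)
      exact congrArg Prod.snd this
    have hxM : IsSMulRegular M x := fun a b e => by
      have := @hreg (a, 0) (b, 0) (Prod.ext e (by simp))
      exact congrArg Prod.fst this
    haveI := GorenLib.isLocalRing_quotient hx
    have hd : LocCoh.depth (A ⧸ Ideal.span {x}) (A ⧸ Ideal.span {x}) = t := by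
      have e := GorenLib.depth_quotient_add_one hx hxA
      rw [ht, Nat.cast_succ] at e
      exact (ENat.add_left_injective_of_ne_top ENat.one_ne_top) e
    haveI : Module.Finite (A ⧸ Ideal.span {x}) (QuotSMulTop x M) :=
      Module.Finite.of_restrictScalars_finite A _ _
    have hdM : (t : ℕ∞) ≤ LocCoh.depth (A ⧸ Ideal.span {x}) (QuotSMulTop x M) := by
      rw [← FlatDepth.depth_eq_of_surjective (A := A) (B := A ⧸ Ideal.span {x}) (M := QuotSMulTop x M)
        Ideal.Quotient.mk_surjective]
      exact (DepthLib.natCast_le_idealDepth_quotSMulTop_iff hx hxM t).2 hM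
    rw [← pd_zero_iff, pd_quotSMulTop_iff hx hxA M hxM, pd_zero_iff]
    exact projective_of_depth_ge t _ hd _ ⟨n, (pd_quotSMulTop_iff hx hxA M hxM).1 h⟩ hdM

/-- A nonzero finite projective module has the depth of the ring. -/
theorem depth_of_projective [Nontrivial M] [Module.Projective A M] :
    LocCoh.depth A M = LocCoh.depth A A := by
  haveI : Module.Free A M := Module.free_of_flat_of_isLocalRing
  let b := Module.Free.chooseBasis A M
  obtain ⟨r, hr⟩ : ∃ r, Fintype.card (Module.Free.ChooseBasisIndex A M) = r + 1 :=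
    Nat.exists_eq_succ_of_ne_zero (haveI := b.index_nonempty; Fintype.card_ne_zero)
  let e : M ≃ₗ[A] (Fin (r + 1) → A) := (b.reindex (Fintype.equivFinOfCardEq hr)).equivFun
  rw [← FlatDepth.depth_pi_succ A r]
  exact DepthLib.idealDepth_congr e

/-- **Auslander–Buchsbaum**. -/
theorem pd_iff : ∀ (e : ℕ) {M : Type u} [AddCommGroup M] [Module A M] [Module.Finite A M] [Nontrivial M]
    {t d : ℕ}, LocCoh.depth A A = t → (∃ n, PD A M n) → LocCoh.depth A M = d → t ≤ d + e →
    ∀ j, (PD A M j ↔ t ≤ d + j) := by
  intro e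
  induction e with
  | zero =>
    intro M _ _ _ _ t d ht hn hd hle j
    have hp := projective_of_depth_ge t A ht M hn (by rw [hd]; exact_mod_cast hle)
    exact ⟨fun _ => hle.trans (Nat.le_add_right _ _), fun _ => (pd_zero_iff.2 hp).mono (Nat.zero_le _)⟩
  | succ e ih =>
    intro M _ _ _ _ t d ht hn hd hle j
    by_cases hdt : t ≤ d
    · have hp := projective_of_depth_ge t A ht M hn (by rw [hd]; exact_mod_cast hdt)
      exact ⟨fun _ => hdt.trans (Nat.le_add_right _ _), fun _ => (pd_zero_iff.2 hp).mono (Nat.zero_le _)⟩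
    have hnp : ¬ Module.Projective A M := fun hp => hdt <| by
      have := depth_of_projective (A := A) (M := M)
      rw [hd, ht] at this
      exact (Nat.cast_inj.1 this).ge
    obtain ⟨m, f, hf⟩ := Module.Finite.exists_fin' A M
    haveI : Module.Finite A (LinearMap.ker f) := Module.Finite.iff_fg.2 (IsNoetherian.noetherian _)
    haveI : Nontrivial (LinearMap.ker f) := by
      by_contra h
      rw [not_nontrivial_iff_subsingleton, Submodule.subsingleton_iff_eq_bot] at h
      exact hnp (Module.Projective.of_equiv (LinearEquiv.ofBijective f ⟨LinearMap.ker_eq_bot.1 h, hf⟩))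
    obtain ⟨m', rfl⟩ : ∃ m', m = m' + 1 := by
      refine Nat.exists_eq_succ_of_ne_zero fun hm => ?_
      subst hm
      haveI : Subsingleton M := hf.subsingleton
      exact false_of_nontrivial_of_subsingleton M
    obtain ⟨k, hk⟩ := DepthLib.exists_depth_eq_natCast (R := A) (M := LinearMap.ker f)
    have hS := DepthLib.idealDepth_shortExact (I := maximalIdeal A)
      (DepthLib.shortExact_of_linearMap (f := (LinearMap.ker f).subtype) (g := f)
        (LinearMap.ker f).injective_subtype hf (LinearMap.exact_subtype_ker_map f))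
    have hF : LocCoh.idealDepth (maximalIdeal A) (Fin (m' + 1) → A) = t :=
      (FlatDepth.depth_pi_succ A m').trans ht
    have h2 := hS.2.1
    have h3 := hS.2.2
    change min (LocCoh.idealDepth (maximalIdeal A) (Fin (m' + 1) → A))
      (LocCoh.depth A (LinearMap.ker f) - 1) ≤ LocCoh.depth A M at h2
    change min (LocCoh.idealDepth (maximalIdeal A) (Fin (m' + 1) → A))
      (LocCoh.depth A M + 1) ≤ LocCoh.depth A (LinearMap.ker f) at h3
    rw [hF, hk, hd] at h2
    rw [hF, hk, hd] at h3
    rw [← Nat.cast_one, ← ENat.natCast_sub, ← Nat.mono_cast.map_min, Nat.cast_le] at h2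
    rw [← Nat.cast_one, ← Nat.cast_add, ← Nat.mono_cast.map_min, Nat.cast_le] at h3
    have hkd : k = d + 1 := by omega
    cases j with
    | zero => exact ⟨fun h => absurd (pd_zero_iff.1 h) hnp, fun h => absurd h hdt⟩
    | succ j =>
      obtain ⟨n, hn⟩ := hn
      rw [pd_succ_iff f hf, ih ht ⟨n, (pd_succ_iff f hf).1 (hn.mono (Nat.le_succ n))⟩ hk (by omega) j]
      omega

/-- Auslander–Buchsbaum over a regular local ring. -/
theorem pd_iff_of_regular [IsRegularLocalRing A] [Nontrivial M] {t d : ℕ} (ht : ringKrullDim A = t)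
    (hd : LocCoh.depth A M = d) (j : ℕ) : PD A M j ↔ t ≤ d + j := by
  haveI := DepthLib.isCohenMacaulayLocalRing_of_isRegularLocalRing (R := A)
  have h : (Module.supportDim A A) = ((LocCoh.depth A A : ℕ∞) : WithBot ℕ∞) :=
    LocCoh.IsCohenMacaulayLocalRing.supportDim_eq_depth
  rw [Module.supportDim_self_eq_ringKrullDim, ht] at h
  exact pd_iff t (WithBot.coe_inj.1 h).symm ⟨_, RegLoc.pd_le_spanFinrank _ A rfl M⟩ hd (Nat.le_add_left t d) j

end Groth.Agent.AB5
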